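import Cfsg.Agent.H957.EPX.G2Seven
import Cfsg.Agent.H936.List12c
import Cfsg.Agent.H921.SporJ1
import Cfsg.Agent.H921.SporJ2
import Cfsg.Agent.H921.SporJ3
import Cfsg.Agent.H921.SporSuz
import Cfsg.Agent.H921.SporMore

/-!
# S5745, cell `g2_spor`: the sporadic groups with a representation of degree at most `7` (helper444)

`spor_cases` : `f : T →* chevG2.group K` nontrivial, `T` sporadic, `K` of characteristic `p`: `p = 3` and
`T = M₁₁, M₁₂`, or `p = 11` and `T = J₁`, or `p = 2` and `T = J₂`.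
-/

set_option autoImplicit false
set_option linter.unusedSectionVars false

namespace Cfsg.Agent.H444.G2S

open Cfsg Cfsg.Lie Cfsg.Agent.H915.LD Cfsg.Agent.H912.Bd Cfsg.Agent.H957.EPX
open Cfsg.Agent.H921.Spor

section

variable {T : Type} [Group T] [Finite T] (p : ℕ) [hp : Fact p.Prime] {E : Type} [Field E] [CharP E p] {m : ℕ}
  {P : Subgroup (Matrix.GeneralLinearGroup (Fin m) E)}

theorem cast_ne' {r : ℕ} (hr : r.Prime) (h : p ≠ r) : (r : E) ≠ 0 := by
  intro h0
  have h1 : p ∣ r := (CharP.cast_eq_zero_iff E p r).1 h0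
  exact h ((Nat.prime_dvd_prime_iff_eq hp.out hr).1 h1)

include hp

theorem kill1 (eP : T ≃* P) (hm : m ≤ 7) {X : Type} [Group X] (e : T ≃* X) {r a : ℕ} (hr : r.Prime) (h : Orb r a X)
    (ha : 8 ≤ a) : p = r := by
  by_contra hpr
  have h1 : Orb r a T := h.of_equiv e.symm
  have h2 := h1.bd (F := E) hr (cast_ne' p hr hpr) m (pr_of_equiv eP r)
  omega

theorem kill2 (eP : T ≃* P) (hm : m ≤ 7) {X : Type} [Group X] (e : T ≃* X) {r s a b : ℕ} (hr : r.Prime) (hs : s.Prime)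
    (h : Orb r a X) (h' : Orb s b X) (ha : 8 ≤ a) (hb : 8 ≤ b) (hrs : r ≠ s) : False :=
  hrs ((kill1 p eP hm e hr h ha).symm.trans (kill1 p eP hm e hs h' hb))

end

/-- **The sporadic subgroups of `G₂(q)`.** -/
theorem spor_cases {T : Type} [Group T] [Finite T] [IsSimpleGroup T] (hna : ∃ a b : T, a * b ≠ b * a)
    {p : ℕ} [hp : Fact p.Prime] {K : Type} [Field K] [Finite K] [CharP K p] (f : T →* chevG2.group K)
    (hf : f ≠ 1) (hT : IsSporadicGroup T) :
    (p = 3 ∧ (Spor.IsoM11 T ∨ Spor.IsoM12 T)) ∨ (p = 11 ∧ Spor.IsoJ1 T) ∨ (p = 2 ∧ Spor.IsoJ2 T) := by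
  obtain ⟨m, hm, E, iE, iEf, iEc, P, hC, ⟨eP⟩, ⟨eS⟩⟩ := g2_core hna f hf
  rcases hT with h | h | h | h | h | h | h | h | h | h | h | h | h | h | h | h | h | h | h | h | h | h | h | h | h | h
  · have h0 := h
    obtain ⟨e⟩ := h0
    exact Or.inl ⟨kill1 p eP hm e Nat.prime_three (M24.M11_three.orb Nat.prime_three) (by norm_num), Or.inl h⟩
  · have h0 := h
    obtain ⟨e⟩ := h0
    exact Or.inl ⟨kill1 p eP hm e Nat.prime_three (M24.M12_three.orb Nat.prime_three) (by norm_num), Or.inr h⟩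
  · obtain ⟨e⟩ := h
    exact (kill2 p eP hm e Nat.prime_two Nat.prime_three M24.M22_two M24.M22_three (by norm_num) (by norm_num)
      (by norm_num)).elim
  · obtain ⟨e⟩ := h
    exact (kill2 p eP hm e Nat.prime_two Nat.prime_three (M24.M23_two.orb Nat.prime_two) M24.M23_three
      (by norm_num) (by norm_num) (by norm_num)).elim
  · obtain ⟨e⟩ := h
    exact (kill2 p eP hm e Nat.prime_two Nat.prime_three (M24.M24_two.orb Nat.prime_two) M24.M24_three
      (by norm_num) (by norm_num) (by norm_num)).elim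
  · have h0 := h
    obtain ⟨e⟩ := h0
    exact Or.inr (Or.inl ⟨kill1 p eP hm e (by norm_num) (J1.J1_eleven.orb (by norm_num)) (by norm_num), h⟩)
  · have h0 := h
    obtain ⟨e⟩ := h0
    exact Or.inr (Or.inr ⟨kill1 p eP hm e Nat.prime_two J2.J2_two (by norm_num), h⟩)
  · obtain ⟨F, _, _, ω, hF, hω, ⟨e⟩⟩ := h
    have H := Cfsg.Agent.J3.Core.good_of_card hF hω
    exact (kill2 p eP hm e (by norm_num) (by norm_num) ((J3.J3_nineteen hF H).orb (by norm_num))
      ((J3.J3_seventeen hF H).orb (by norm_num)) (by norm_num) (by norm_num) (by norm_num)).elim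
  · obtain ⟨e⟩ := h
    have := Cfsg.Agent.H921.Spor.Le.j4_le hp.out hC (eS.symm.trans e)
    omega
  · obtain ⟨e⟩ := h
    have := Cfsg.Agent.H921.Spor.Le.co1_le hp.out hC (eS.symm.trans e)
    omega
  · obtain ⟨e⟩ := h
    have := Cfsg.Agent.H921.Spor.Le.co2_le hp.out hC (eS.symm.trans e)
    omega
  · obtain ⟨e⟩ := h
    have := Cfsg.Agent.H921.Spor.Le.co3_le hp.out hC (eS.symm.trans e)
    omega
  · obtain ⟨e⟩ := h
    have := Cfsg.Agent.H489.Deg.Co.mcl_le hp.out hC (eS.symm.trans e)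
    omega
  · obtain ⟨e⟩ := h
    have := Cfsg.Agent.H489.Deg.Co.hs_le hp.out hC (eS.symm.trans e)
    omega
  · obtain ⟨e⟩ := h
    exact (kill2 p eP hm e (by norm_num) (by norm_num) (Suz.Suz_eleven.orb (by norm_num)) Suz.Suz_five
      (by norm_num) (by norm_num) (by norm_num)).elim
  · obtain ⟨e⟩ := h
    have := Cfsg.Agent.H489.Deg.He.he_le hp.out hC (eS.symm.trans e)
    omega
  · obtain ⟨e⟩ := h
    have := Cfsg.Agent.H489.Deg.Ru.ru_le hp.out hC (eS.symm.trans e)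
    omega
  · obtain ⟨e⟩ := h
    have := Cfsg.Agent.H489.Deg.ON.on_le hp.out hC (eS.symm.trans e)
    omega
  · obtain ⟨e⟩ := h
    have := Cfsg.Agent.H489.Deg.Ly.ly_le hp.out hC (eS.symm.trans e)
    omega
  · obtain ⟨e⟩ := h
    have := Cfsg.Agent.H806.Ls.fi22_le hp.out hC (eS.symm.trans e)
    omega
  · obtain ⟨e⟩ := h
    have := Cfsg.Agent.H806.Ls.fi23_le hp.out hC (eS.symm.trans e)
    omega
  · obtain ⟨e⟩ := h
    have := Cfsg.Agent.H921.Spor.Le.fi24_le hp.out hC (eS.symm.trans e)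
    omega
  · obtain ⟨e⟩ := h
    have := Cfsg.Agent.H489.Deg.HN.hn_le hp.out hC (eS.symm.trans e)
    omega
  · obtain ⟨e⟩ := h
    have := Cfsg.Agent.H489.Deg.Th.th_le hp.out hC (eS.symm.trans e)
    omega
  · obtain ⟨e⟩ := h
    have := Cfsg.Agent.H806.Ls.b_le hp.out hC (eS.symm.trans e)
    omega
  · obtain ⟨e⟩ := h
    have := Cfsg.Agent.H806.Ls.m_le hp.out hC (eS.symm.trans e)
    omega

end Cfsg.Agent.H444.G2S
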