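import Cfsg.Agent.H444.G2S.Abs

/-!
# S5745, cell `g2_spor`: Sylow conjugacy for prime order, `J₂.2` (helper444)
-/

set_option autoImplicit false
set_option linter.unusedSectionVars false

namespace Cfsg.Agent.H444.G2S

open Subgroup MulAction

theorem conj_zpowers {G : Type*} [Group G] [Finite G] {r : ℕ} (hr : r.Prime) (h2 : ¬ r ^ 2 ∣ Nat.card G) {y z : G}
    (hy : orderOf y = r) (hz : orderOf z = r) : ∃ g : G, g * z * g⁻¹ ∈ Subgroup.zpowers y := by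
  have : Fact r.Prime := ⟨hr⟩
  have hfac : (Nat.card G).factorization r = 1 := by
    have hne : Nat.card G ≠ 0 := Nat.card_pos.ne'
    have h3 : 1 ≤ (Nat.card G).factorization r := (hr.dvd_iff_one_le_factorization hne).1 (hy ▸ orderOf_dvd_natCard y)
    by_contra h4
    exact h2 ((hr.pow_dvd_iff_le_factorization hne).2 (by omega))
  let P : Sylow r G := Sylow.ofCard (Subgroup.zpowers y) (by rw [Nat.card_zpowers, hy, hfac, pow_one])
  let Q : Sylow r G := Sylow.ofCard (Subgroup.zpowers z) (by rw [Nat.card_zpowers, hz, hfac, pow_one])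
  obtain ⟨g, hg⟩ := MulAction.exists_smul_eq G P Q
  have h3 : z ∈ ((g • P : Sylow r G) : Subgroup G) := by
    rw [hg]
    exact Subgroup.mem_zpowers z
  rw [Sylow.coe_subgroup_smul, Subgroup.mem_pointwise_smul_iff_inv_smul_mem] at h3
  refine ⟨g⁻¹, ?_⟩
  have h5 : (MulAut.conj g)⁻¹ • z = g⁻¹ * z * g⁻¹⁻¹ := by
    rw [← map_inv, MulAut.smul_def, MulAut.conj_apply]
  rw [← h5]
  exact h3

/-- `3` generates `(ℤ/7)ˣ` -/
theorem three_gen (j : ℕ) (hj : ¬ 7 ∣ j) : ∃ i : ℕ, 3 ^ i % 7 = j % 7 := by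
  have h : j % 7 = 1 ∨ j % 7 = 2 ∨ j % 7 = 3 ∨ j % 7 = 4 ∨ j % 7 = 5 ∨ j % 7 = 6 := by omega
  rcases h with h | h | h | h | h | h <;> rw [h]
  · exact ⟨0, rfl⟩
  · exact ⟨2, rfl⟩
  · exact ⟨1, rfl⟩
  · exact ⟨4, rfl⟩
  · exact ⟨5, rfl⟩
  · exact ⟨3, rfl⟩

/-- The extension of a group with `N(⟨y⟩) / C(y)` of order `6` by an involution: `C_A(y)` has even order. -/
theorem exists_even {G : Type*} [Group G] [Finite G] {A N : Subgroup G} (hNA : N ≤ A)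
    (hN : ∀ a ∈ A, ∀ n ∈ N, a * n * a⁻¹ ∈ N) (h49 : ¬ 7 ^ 2 ∣ Nat.card N) {y u : G} (hyN : y ∈ N) (huN : u ∈ N)
    (hy : orderOf y = 7) (hu : u * y * u⁻¹ = y ^ 3) {a : G} (ha : a ∈ A) :
    ∃ c ∈ A, c * y = y * c ∧ ∃ n ∈ N, c = n * a := by
  have h1 : a * y * a⁻¹ ∈ N := hN a ha y hyN
  have ho : orderOf (a * y * a⁻¹) = 7 := by
    have h7 := MulEquiv.orderOf_eq (MulAut.conj a) y
    rw [MulAut.conj_apply] at h7
    rw [h7, hy]
  obtain ⟨n, hn⟩ := conj_zpowers (G := N) (r := 7) (by norm_num) h49 (y := ⟨y, hyN⟩) (z := ⟨a * y * a⁻¹, h1⟩)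
    (by rw [Subgroup.orderOf_mk, hy]) (by rw [Subgroup.orderOf_mk, ho])
  have hn2 : (⟨y, hyN⟩ : N) ∈ Submonoid.powers (⟨y, hyN⟩ : N) := Submonoid.mem_powers _
  have hn3 : n * ⟨a * y * a⁻¹, h1⟩ * n⁻¹ ∈ Submonoid.powers (⟨y, hyN⟩ : N) := mem_powers_iff_mem_zpowers.2 hn
  obtain ⟨j, hj⟩ := hn3
  have hj' : (n : G) * (a * y * a⁻¹) * (n : G)⁻¹ = y ^ j := (congrArg Subtype.val hj).symm
  have hj7 : ¬ 7 ∣ j := by
    rintro ⟨k, rfl⟩
    have h2 : y ^ (7 * k) = 1 := by rw [pow_mul, ← hy, pow_orderOf_eq_one, one_pow]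
    rw [h2] at hj'
    have h3 : y = 1 := by
      have h4 : (n : G) * a * y * (n * a)⁻¹ = 1 := by rw [← hj']; group
      have h5 := conj_eq_one_iff.1 h4
      exact h5
    rw [h3, orderOf_one] at hy
    omega
  obtain ⟨i, hi⟩ := three_gen j hj7
  have hui : ∀ i : ℕ, u ^ i * y * (u ^ i)⁻¹ = y ^ 3 ^ i := by
    intro i
    induction i with
    | zero => simp
    | succ i ih =>
      have h8 : u ^ (i + 1) * y * (u ^ (i + 1))⁻¹ = u ^ i * (u * y * u⁻¹) * (u ^ i)⁻¹ := by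
        rw [pow_succ]; group
      rw [h8, hu, ← conj_pow, ih, ← pow_mul, pow_succ]
  have hyj : y ^ 3 ^ i = y ^ j := by
    rw [← Nat.mod_add_div (3 ^ i) 7, ← Nat.mod_add_div j 7, hi, pow_add, pow_add, pow_mul, pow_mul, ← hy,
      pow_orderOf_eq_one, one_pow, one_pow]
  have h9 : u ^ i * y * (u ^ i)⁻¹ = (n : G) * (a * y * a⁻¹) * (n : G)⁻¹ := by rw [hui, hyj, hj']
  refine ⟨(u ^ i)⁻¹ * n * a, ?_, ?_, (u ^ i)⁻¹ * n, N.mul_mem (N.inv_mem (N.pow_mem huN i)) n.2, rfl⟩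
  · exact A.mul_mem (A.mul_mem (A.inv_mem (A.pow_mem (hNA huN) i)) (hNA n.2)) ha
  · have h10 : (u ^ i)⁻¹ * n * a * y * ((u ^ i)⁻¹ * n * a)⁻¹ = y := by
      have e1 : (u ^ i)⁻¹ * n * a * y * ((u ^ i)⁻¹ * n * a)⁻¹ = (u ^ i)⁻¹ * ((n : G) * (a * y * a⁻¹) * (n : G)⁻¹) * u ^ i := by
        group
      rw [e1, ← h9]
      group
    exact mul_inv_eq_iff_eq_mul.1 h10

end Cfsg.Agent.H444.G2S
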