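import Cfsg.Agent.H444.G2S.Num
import Cfsg.Agent.H444.G2S.Cases
import Cfsg.Agent.H444.G2S.Sylow
import Cfsg.Agent.H444.G2S.JOne
import Cfsg.Agent.H901.EP.RowGrp
import Cfsg.Agent.H129.CycCard
import Cfsg.Agent.S2060
import Cfsg.Agent.S2061
import Cfsg.Agent.S2065
import Cfsg.Agent.HNType.Alt
import Cfsg.Agent.MTwelveType.SylowModel

/-!
# S5745, cell `g2_spor` (helper444)

The stabiliser of an extremely primitive action of `G₂(q)`, `q > 2`, with a sporadic socle: only `J₂ < G₂(4)`.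
-/

set_option autoImplicit false
set_option linter.unusedSectionVars false

namespace Cfsg.Agent.H444.G2S

open Subgroup Cfsg Cfsg.Lie Cfsg.Agent.H284 Cfsg.Agent.H209.EPX Cfsg.Agent.H59.EP

theorem cyc_g2 {F : Type} [Field F] [Fintype F] {q m r : ℕ} (hq : Fintype.card F = q) (hm : m = 1 + q + q ^ 2)
    (hr : r.Prime) (h : r ∣ m) (h3 : r ≠ 3) : Cyc ↥(chevG2.group F) r m := by
  have hm' : (m : ℤ) = 1 + (q : ℤ) + (q : ℤ) ^ 2 := by rw [hm]; push_cast; ring
  obtain ⟨T, h1, h2, h3', h4, h5⟩ := Cfsg.Agent.H129.CycCard.card_G2_3 hq hm' hr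
    (by rw [← hm']; exact_mod_cast h) h3
  rw [one_mul] at h3'
  exact ⟨T, h1, Nat.dvd_antisymm h2 h3', h4, h5⟩

section

variable {F : Type} [Field F] [Fintype F] {H N : Subgroup ↥(chevG2.group F)} {T : Type} [Group T]
  {e : N ≃* (Fin 1 → T)}

/-- the bound on `q` -/
theorem lt_of_ub (hg : TwoGen.{0}) [IsSimpleGroup ↥(chevG2.group F)] (h : EPS H N e) (l : List (ℕ × ℕ))
    (h1 : ∀ x ∈ l, x.1.Prime ∧ 0 < x.2) (h2 : (l.map Prod.fst).Nodup) {B : ℕ}
    (hl : (l.map fun x => x.1 ^ x.2).prod = B) (hB0 : 0 < B) (hB : B < 60 ^ 61) (hc : Nat.card (MulAut T) ∣ B)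
    {Q : ℕ} (hQ : ubN l B < og Q) : Fintype.card F < Q := by
  by_contra hlt
  have h3 := card_le_ub hg h l h1 h2 hl hB0 hB hc
  rw [card_g2] at h3
  exact absurd (lt_of_lt_of_le hQ (og_mono (not_lt.1 hlt))) (not_lt.2 h3)

theorem dvd_og (h : EPS H N e) {n : ℕ} (hn : n ∣ Nat.card T) : n ∣ og (Fintype.card F) := by
  rw [← card_g2]
  exact (hn.trans (card_T_dvd h)).trans H.card_subgroup_dvd_card

/-- `p = 3` -/
theorem case3 (hg : TwoGen.{0}) (p : ℕ) [Fact p.Prime] [CharP F p] [IsSimpleGroup ↥(chevG2.group F)] (h : EPS H N e)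
    (hp : p = 3) (hT : Spor.IsoM11 T ∨ Spor.IsoM12 T) : False := by
  obtain ⟨a, ha, hF⟩ := card_pow F p
  subst hp
  have h1 : Nat.card (MulAut T) ∣ 190080 ∧ 11 ∣ Nat.card T := by
    rcases hT with hT | hT
    · obtain ⟨e1⟩ := hT
      have hfin : Finite Spor.M11 := Nat.finite_of_card_ne_zero (by rw [Cfsg.Agent.HNType.Alt.card_M11]; norm_num)
      refine ⟨aut_dvd e1 Cfsg.Agent.S2060.result Cfsg.Agent.HNType.Alt.card_M11 (by norm_num), ?_⟩
      rw [Nat.card_congr e1.toEquiv, Cfsg.Agent.HNType.Alt.card_M11]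
      norm_num
    · obtain ⟨e1⟩ := hT
      have hfin : Finite Spor.M12 :=
        Nat.finite_of_card_ne_zero (by rw [Cfsg.Agent.MTwelveType.SylowModel.card_M12]; norm_num)
      refine ⟨aut_dvd e1 Cfsg.Agent.S2061.result Cfsg.Agent.MTwelveType.SylowModel.card_M12 (by norm_num), ?_⟩
      rw [Nat.card_congr e1.toEquiv, Cfsg.Agent.MTwelveType.SylowModel.card_M12]
      norm_num
  have h2 : Fintype.card F < 27 := lt_of_ub hg h [(2, 7), (3, 3), (5, 1), (11, 1)]
    (by intro x hx; fin_cases hx <;> norm_num) (by decide) (B := 190080) (by decide) (by norm_num) (by norm_num) h1.1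
    (by decide +kernel)
  have h3 := dvd_og h h1.2
  rw [hF] at h2 h3
  have ha3 : a < 3 := by
    by_contra h4
    exact absurd (Nat.pow_le_pow_right (by norm_num : 0 < 3) (by omega : 3 ≤ a)) (not_le.2 (by norm_num; exact h2))
  interval_cases a
  · revert h3; decide +kernel
  · revert h3; decide +kernel

/-- `p = 11` -/
theorem case11 (hg : TwoGen.{0}) (p : ℕ) [Fact p.Prime] [CharP F p] [IsSimpleGroup ↥(chevG2.group F)] (h : EPS H N e)
    (hp : p = 11) (hT : Spor.IsoJ1 T) : False := by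
  obtain ⟨a, ha, hF⟩ := card_pow F p
  subst hp
  obtain ⟨e1⟩ := hT
  have hfin : Finite Spor.J1 := Nat.finite_of_card_ne_zero (by rw [Cfsg.Agent.H413.JOneLocal.card_J1]; norm_num)
  have h1 : Nat.card (MulAut T) ∣ 175560 :=
    aut_dvd e1 Cfsg.Agent.S2065.result Cfsg.Agent.H413.JOneLocal.card_J1 (by norm_num)
  have hcT : Nat.card T = 175560 := by rw [Nat.card_congr e1.toEquiv, Cfsg.Agent.H413.JOneLocal.card_J1]
  have h2 : Fintype.card F < 121 := lt_of_ub hg h [(2, 3), (3, 1), (5, 1), (7, 1), (11, 1), (19, 1)]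
    (by intro x hx; fin_cases hx <;> norm_num) (by decide) (B := 175560) (by decide) (by norm_num) (by norm_num) h1
    (by decide +kernel)
  rw [hF] at h2
  have ha2 : a = 1 := by
    by_contra h4
    exact absurd (Nat.pow_le_pow_right (by norm_num : 0 < 11) (by omega : 2 ≤ a)) (not_le.2 (by norm_num; exact h2))
  rw [ha2, pow_one] at hF
  have hcH : Nat.card H = 175560 := Nat.dvd_antisymm ((card_H_dvd h).trans h1) (hcT ▸ card_T_dvd h)
  have hcN : Nat.card N = 175560 := by rw [Nat.card_congr (eN e).toEquiv, hcT]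
  have hNH : N = H := Subgroup.eq_of_le_of_card_ge h.le (by rw [hcN, hcH])
  have h19 : ¬ 19 ^ 2 ∣ Nat.card ↥(chevG2.group F) := by
    rw [card_g2, hF]; decide +kernel
  have h7 : ¬ 7 ^ 2 ∣ Nat.card ↥(chevG2.group F) := by
    rw [card_g2, hF]; decide +kernel
  have hC19 : Cyc ↥(chevG2.group F) 19 133 := cyc_g2 hF (by norm_num) (by norm_num) (by norm_num) (by norm_num)
  have hC7 : Cyc ↥(chevG2.group F) 7 133 := cyc_g2 hF (by norm_num) (by norm_num) (by norm_num) (by norm_num)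
  -- the isomorphism
  let e2 : N ≃* Spor.J1 := (eN e).trans e1
  obtain ⟨y1, hy1⟩ := (Cfsg.Agent.H413.JOneSpec.exists_orderOf_iff 19).2 (by decide)
  obtain ⟨y0, rfl⟩ := e2.surjective y1
  have hy : orderOf (y0 : ↥(chevG2.group F)) = 19 := by
    rw [Subgroup.orderOf_coe, ← hy1, MulEquiv.orderOf_eq]
  have hCA : Nat.card (N ⊓ Subgroup.centralizer {(y0 : ↥(chevG2.group F))} : Subgroup ↥(chevG2.group F)) = 19 := by
    rw [card_inf_cent e2 y0, cent19 hy1]
  have hCG := cent_of_cyc (by norm_num) hC19 h19 hy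
  obtain ⟨x, hx, hxy⟩ := exists_comm (s := 7) (by norm_num) (y := (y0 : ↥(chevG2.group F))) (by rw [hCG.2]; norm_num)
  have h7N : ¬ 7 ∣ Nat.card (N ⊓ Subgroup.centralizer {(y0 : ↥(chevG2.group F))} : Subgroup ↥(chevG2.group F)) := by
    rw [hCA]; norm_num
  have hxN : x ∉ N := by
    intro hxN
    apply h7N
    rw [← hx, ← Subgroup.orderOf_mk x (Subgroup.mem_inf.2 ⟨hxN, Subgroup.mem_centralizer_singleton_iff.2 hxy⟩)]
    exact orderOf_dvd_natCard _
  subst hNH
  obtain ⟨u, hu, hux, ⟨k, huy⟩, hne⟩ := ps_j1 (ept_of_ep (G_nab h) h.ep) (no_abelian h) hy y0.2 hcN hCA hxN hxy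
  exact hne (comm_of_cyc (s := 7) (by norm_num) (fun y' hy' => (cent_of_cyc (by norm_num) hC19 h19 (hy'.trans hy)).1)
    (cent_of_cyc (by norm_num) hC7 h7 hx).1 hx hxy h7N hu hux huy)

/-- `p = 2` -/
theorem case2 (hg : TwoGen.{0}) (p : ℕ) [Fact p.Prime] [CharP F p] [IsSimpleGroup ↥(chevG2.group F)] (h : EPS H N e)
    (h3q : 3 ≤ Fintype.card F) (hp : p = 2) (hT : Spor.IsoJ2 T) : Fintype.card F = 4 ∧ Spor.IsoJ2 ↥H := by
  obtain ⟨a, ha, hF⟩ := card_pow F p
  subst hp
  have h1 : Nat.card (MulAut T) ∣ 1209600 := Cfsg.Agent.H109.Cov.aut_j2 hT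
  have hcT : Nat.card T = 604800 := Cfsg.Agent.H901.EP.card_j2 hT
  have hJN : Spor.IsoJ2 ↥N := by
    obtain ⟨e1⟩ := hT
    exact ⟨(eN e).trans e1⟩
  have hcN : Nat.card N = 604800 := Cfsg.Agent.H901.EP.card_j2 hJN
  have h2 : Fintype.card F < 64 := lt_of_ub hg h [(2, 8), (3, 3), (5, 2), (7, 1)]
    (by intro x hx; fin_cases hx <;> norm_num) (by decide) (B := 1209600) (by decide) (by norm_num) (by norm_num) h1
    (by decide +kernel)
  have h5 : 5 ∣ og (Fintype.card F) := dvd_og h (by rw [hcT]; norm_num)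
  have hq : Fintype.card F = 4 ∨ Fintype.card F = 16 := by
    rw [hF] at h2 h5 h3q ⊢
    have ha6 : a < 6 := by
      by_contra h4
      exact absurd (Nat.pow_le_pow_right (by norm_num : 0 < 2) (by omega : 6 ≤ a)) (not_le.2 (by norm_num; exact h2))
    interval_cases a
    · norm_num at h3q
    · left; norm_num
    · exfalso; revert h5; decide +kernel
    · right; norm_num
    · exfalso; revert h5; decide +kernel
  obtain ⟨y, u, hyN, huN, hy, huy3, hyc, hAC⟩ := Cfsg.Agent.H901.EP.facts h.le h.nrm (cent_H h) hJN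
  rcases hq with hq | hq
  · -- `q = 4`
    refine ⟨hq, ?_⟩
    have h7 : ¬ 7 ^ 2 ∣ Nat.card ↥(chevG2.group F) := by
      rw [card_g2, hq]; decide +kernel
    have hC7 : Cyc ↥(chevG2.group F) 7 21 := cyc_g2 hq (by norm_num) (by norm_num) (by norm_num) (by norm_num)
    have hCG := cent_of_cyc (by norm_num) hC7 h7 hy
    rcases hAC with ⟨hA, -⟩ | ⟨hA, -⟩
    · have hNH : N = H := Subgroup.eq_of_le_of_card_ge h.le (by rw [hcN, hA])
      rw [← hNH]
      exact hJN
    · exfalso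
      have hne : ¬ H ≤ N := by
        intro hHN
        have := Subgroup.card_le_of_le hHN
        rw [hA, hcN] at this
        omega
      obtain ⟨b, hbH, hbN⟩ := SetLike.not_le_iff_exists.1 hne
      obtain ⟨c, hcH, hcy, n, hn, hcn⟩ := exists_even h.le h.nrm (by rw [hcN]; norm_num) hyN huN hy huy3 hbH
      have hcN' : c ∉ N := by
        intro h8
        apply hbN
        have h9 : b = n⁻¹ * c := by rw [hcn]; group
        rw [h9]
        exact N.mul_mem (N.inv_mem hn) h8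
      -- `N` has index `2` in `H`
      have hidx : N.relIndex H = 2 := by
        have h8 := Subgroup.card_mul_index (N.subgroupOf H)
        have h9 : Nat.card (N.subgroupOf H) = 604800 := by
          rw [Nat.card_congr (Subgroup.subgroupOfEquivOfLe h.le).toEquiv, hcN]
        rw [h9, hA] at h8
        have h10 : (N.subgroupOf H).index = N.relIndex H := rfl
        rw [h10] at h8
        omega
      have hc2 : c ^ 2 ∈ N := by
        have h8 : (⟨c, hcH⟩ : H) ^ 2 ∈ N.subgroupOf H := Subgroup.sq_mem_of_index_two hidx _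
        exact h8
      have hcC : c ∈ centralizer {y} := Subgroup.mem_centralizer_singleton_iff.2 hcy
      have ho : orderOf c ∣ 21 := by
        rw [← hCG.2, ← Subgroup.orderOf_mk c hcC]
        exact orderOf_dvd_natCard _
      apply hcN'
      have h8 : c = (c ^ 2) ^ 11 := by
        have h9 : c ^ 21 = 1 := orderOf_dvd_iff_pow_eq_one.1 ho
        rw [← pow_mul, show 2 * 11 = 21 + 1 by norm_num, pow_succ, h9, one_mul]
      rw [h8]
      exact N.pow_mem hc2 11
  · -- `q = 16`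
    exfalso
    have h7 : ¬ 7 ^ 2 ∣ Nat.card ↥(chevG2.group F) := by
      rw [card_g2, hq]; decide +kernel
    have h13 : ¬ 13 ^ 2 ∣ Nat.card ↥(chevG2.group F) := by
      rw [card_g2, hq]; decide +kernel
    have hC7 : Cyc ↥(chevG2.group F) 7 273 := cyc_g2 hq (by norm_num) (by norm_num) (by norm_num) (by norm_num)
    have hC13 : Cyc ↥(chevG2.group F) 13 273 := cyc_g2 hq (by norm_num) (by norm_num) (by norm_num) (by norm_num)
    have hCG := cent_of_cyc (by norm_num) hC7 h7 hy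
    obtain ⟨x, hx, hxy⟩ := exists_comm (s := 13) (by norm_num) (y := y) (by rw [hCG.2]; norm_num)
    have hA : Nat.card H ∣ 1209600 := (card_H_dvd h).trans h1
    have hxH : x ∉ H := by
      intro hxH
      have h8 : 13 ∣ Nat.card H := by
        rw [← hx, ← Subgroup.orderOf_mk x hxH]
        exact orderOf_dvd_natCard _
      have h9 := h8.trans hA
      norm_num at h9
    have h13C : ¬ 13 ∣ Nat.card (H ⊓ centralizer {y} : Subgroup ↥(chevG2.group F)) := by
      intro h8
      have h9 := (h8.trans (Subgroup.card_dvd_of_le inf_le_left)).trans hA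
      norm_num at h9
    obtain ⟨u', hu, hux, ⟨k, huy⟩, hne⟩ :=
      Cfsg.Agent.H901.EP.ps_j2 (ept_of_ep (G_nab h) h.ep) (no_abelian h) hy (h.le hyN) hAC hxH hxy
    exact hne (comm_of_cyc (s := 13) (by norm_num) (fun y' hy' => (cent_of_cyc (by norm_num) hC7 h7 (hy'.trans hy)).1)
      (cent_of_cyc (by norm_num) hC13 h13 hx).1 hx hxy h13C hu hux huy)

end

/-- **S5745, cell `g2_spor`**: a stabiliser with sporadic socle in `G₂(q)`, `q > 2`, is `J₂ < G₂(4)`. -/
theorem g2_spor (hg : TwoGen.{0}) (F : Type) [Field F] [Fintype F] (p : ℕ) [Fact p.Prime] [CharP F p]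
    [IsSimpleGroup ↥(Lie.chevG2.group F)] (h3 : 3 ≤ Fintype.card F) (H N : Subgroup ↥(Lie.chevG2.group F))
    (T : Type) [Group T] (e : N ≃* (Fin 1 → T)) (h : EPS H N e) (hT : IsSporadicGroup T) :
    Fintype.card F = 4 ∧ Cfsg.Spor.IsoJ2 ↥H := by
  have hfin : Finite T := Finite.of_injective _ (emb_inj e)
  have hs := h.simple
  rcases spor_cases h.nab (emb e) (emb_ne_one h) hT with ⟨hp, h1⟩ | ⟨hp, h1⟩ | ⟨hp, h1⟩
  · exact (case3 hg p h hp h1).elim
  · exact (case11 hg p h hp h1).elim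
  · exact case2 hg p h h3 hp h1

end Cfsg.Agent.H444.G2S
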