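import Cfsg.Agent.H444.G2S.Abs
import Cfsg.Agent.H59.EP.UBGen
import Cfsg.Agent.H173.EP.LineBound
import Cfsg.Agent.S1059
import Cfsg.Prelude.Def_KGroupFacts

/-!
# S5745, cell `g2_spor`: the upper bound and the order of `G₂(q)` (helper444)
-/

set_option autoImplicit false
set_option linter.unusedSectionVars false

namespace Cfsg.Agent.H444.G2S

open Subgroup Cfsg Cfsg.Lie Cfsg.Agent.H284 Cfsg.Agent.H209.EPX Cfsg.Agent.H59.EP

/-- the numerical bound -/
def ubN (l : List (ℕ × ℕ)) (B : ℕ) : ℕ :=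
  B * (1 + ((l.map fun x => gal x.1 x.2).sum * (B / 6) + B ^ 2 / 60 + B ^ 3 / 12744000) * (2 * (B / 6)))

theorem card_le_ub (hg : TwoGen.{0}) {G : Type} [Group G] [Finite G] [IsSimpleGroup G] {H N : Subgroup G} {T : Type}
    [Group T] {e : N ≃* (Fin 1 → T)} (h : EPS H N e) (l : List (ℕ × ℕ)) (h1 : ∀ x ∈ l, x.1.Prime ∧ 0 < x.2)
    (h2 : (l.map Prod.fst).Nodup) {B : ℕ} (hl : (l.map fun x => x.1 ^ x.2).prod = B) (hB0 : 0 < B)
    (hB : B < 60 ^ 61) (hc : Nat.card (MulAut T) ∣ B) : Nat.card G ≤ ubN l B := by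
  have hT := ept_of_ep (G_nab h) h.ep
  have hH : Nat.card H ∣ B := (card_H_dvd h).trans hc
  have hHle : Nat.card H ≤ B := Nat.le_of_dvd hB0 hH
  have h3 := EPT.ncard_le_gen_dvd hT hg (no_abelian h) l h1 h2 (by rw [hl]; exact hH) (by rw [hl]; exact hB)
  rw [hl] at h3
  have h4 := index_le_of h3 (Cfsg.Agent.H173.EP.ub1 (inferInstance : IsSimpleGroup G) hT (by norm_num)
    fun _ hx => EPT.six_le hT (no_abelian h) hx) le_rfl
  rw [← H.card_mul_index]
  refine Nat.mul_le_mul hHle (h4.trans ?_)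
  apply Nat.add_le_add_left
  apply Nat.mul_le_mul_left
  exact Nat.mul_le_mul_left _ (Nat.div_le_div_right hHle)

/-- the order of `G₂(q)` -/
def og (q : ℕ) : ℕ := q ^ 6 * (q ^ 2 - 1) * (q ^ 6 - 1)

theorem og_mono {a b : ℕ} (h : a ≤ b) : og a ≤ og b := by
  unfold og
  refine Nat.mul_le_mul (Nat.mul_le_mul (Nat.pow_le_pow_left h 6) ?_) ?_
  · exact Nat.sub_le_sub_right (Nat.pow_le_pow_left h 2) 1
  · exact Nat.sub_le_sub_right (Nat.pow_le_pow_left h 6) 1

theorem card_g2 {F : Type} [Field F] [Fintype F] : Nat.card (chevG2.group F) = og (Fintype.card F) :=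
  Cfsg.Agent.S1059.result rfl

theorem card_mulAut_dvd' {X : Type} [Group X] [Finite X] : Nat.card (MulAut X) ∣ Nat.card (Cfsg.Out X) * Nat.card X := by
  have h1 : Nat.card (MulAut X) = Nat.card (Cfsg.Out X) * Nat.card (MulAut.conj : X →* MulAut X).range :=
    Subgroup.card_eq_card_quotient_mul_card_subgroup _
  rw [h1]
  exact Nat.mul_dvd_mul_left _ (Subgroup.card_range_dvd _)

theorem aut_dvd {X T : Type} [Group X] [Group T] [Finite X] (e : T ≃* X) {a b B : ℕ} (h1 : Nat.card (Cfsg.Out X) = a)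
    (h2 : Nat.card X = b) (hB : a * b ∣ B) : Nat.card (MulAut T) ∣ B := by
  rw [Nat.card_congr (MulAut.congr e).toEquiv]
  refine card_mulAut_dvd'.trans ?_
  rw [h1, h2]
  exact hB

/-- `q = p ^ a` -/
theorem card_pow (F : Type) [Field F] [Fintype F] (p : ℕ) [Fact p.Prime] [CharP F p] :
    ∃ a : ℕ, 0 < a ∧ Fintype.card F = p ^ a := by
  obtain ⟨n, _, h⟩ := FiniteField.card F p
  exact ⟨n, n.2, h⟩

end Cfsg.Agent.H444.G2S
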